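import Mathlib

set_option autoImplicit false

open Topology Pointwise

namespace ProComplLib

universe u v

theorem divisible_eq_zero_of_extension {A' A A'' : Type u} [AddCommGroup A'] [AddCommGroup A]
    [AddCommGroup A''] (f : A' →+ A) (g : A →+ A'') (hf : Function.Injective f)
    (hfg : g.ker = f.range) (h' : ∀ x : A', (∀ n : ℕ, 0 < n → ∃ y : A', n • y = x) → x = 0)
    (h'' : ∀ x : A'', (∀ n : ℕ, 0 < n → ∃ y : A'', n • y = x) → x = 0)
    (htors : ∃ N : ℕ, 0 < N ∧ ∀ x : A'', IsOfFinAddOrder x → N • x = 0)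
    (x : A) (hx : ∀ n : ℕ, 0 < n → ∃ y : A, n • y = x) : x = 0 := by
  obtain ⟨N, hN, hNtors⟩ := htors
  have hgx : g x = 0 := h'' _ fun n hn => by
    obtain ⟨y, rfl⟩ := hx n hn
    exact ⟨g y, (map_nsmul g n y).symm⟩
  obtain ⟨x', rfl⟩ : x ∈ f.range := hfg ▸ AddMonoidHom.mem_ker.mpr hgx
  rw [h' x' fun n hn => ?_, map_zero]
  obtain ⟨y, hy⟩ := hx (n * N) (Nat.mul_pos hn hN)
  have hgy : g (N • y) = 0 := by
    rw [map_nsmul]
    refine hNtors _ (isOfFinAddOrder_iff_nsmul_eq_zero.mpr ⟨n * N, Nat.mul_pos hn hN, ?_⟩)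
    rw [← map_nsmul, hy, hgx]
  obtain ⟨z, hz⟩ : N • y ∈ f.range := hfg ▸ AddMonoidHom.mem_ker.mpr hgy
  exact ⟨z, hf (by rw [map_nsmul, hz, smul_smul, hy])⟩

/-- An abelian group of finite exponent with a smallest nonzero subgroup is cyclic of prime power order. -/
theorem exists_generator {A : Type u} [AddCommGroup A] (hA : AddMonoid.exponent A ≠ 0) (a : A)
    (ha : a ≠ 0) (h : ∀ B : AddSubgroup A, B ≠ ⊥ → a ∈ B) :
    ∃ (g : A) (p n : ℕ), p.Prime ∧ addOrderOf g = p ^ n ∧ ∀ x : A, x ∈ AddSubgroup.zmultiples g := by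
  classical
  obtain ⟨g, hg⟩ := AddMonoid.exists_addOrderOf_eq_exponent
    (AddMonoid.exponent_ne_zero.mp hA)
  set N := AddMonoid.exponent A with hN
  set p := addOrderOf a with hp
  have hmem : ∀ y : A, y ≠ 0 → a ∈ AddSubgroup.zmultiples y := fun y hy =>
    h _ fun hbot => hy (AddSubgroup.zmultiples_eq_bot.mp hbot)
  have hdvd : ∀ y : A, y ≠ 0 → p ∣ addOrderOf y := fun y hy => by
    obtain ⟨k, hk⟩ := hmem y hy
    rw [hp, ← hk]
    exact addOrderOf_dvd_of_mem_zmultiples ⟨k, rfl⟩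
  have hp1 : p ≠ 1 := fun h1 => ha (AddMonoid.addOrderOf_eq_one_iff.mp h1)
  have hN1 : N ≠ 1 := fun h1 => hp1 (Nat.eq_one_of_dvd_one (h1 ▸ AddMonoid.addOrder_dvd_exponent a))
  have hprimes : ∀ q : ℕ, q.Prime → q ∣ N → q = p := by
    intro q hq hqN
    have ho : addOrderOf ((N / q) • g) = q := by
      rw [← hg]
      exact addOrderOf_nsmul_addOrderOf_sub (by rw [hg]; exact hA) (hg ▸ hqN)
    have hne : (N / q) • g ≠ 0 := fun h0 => hq.ne_one (by rw [← ho, h0, addOrderOf_zero])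
    exact ((Nat.dvd_prime hq).mp (ho ▸ hdvd _ hne)).resolve_left hp1 |>.symm
  obtain ⟨q, hq, hqN⟩ := Nat.exists_prime_and_dvd hN1
  have hpp : p.Prime := hprimes q hq hqN ▸ hq
  have hNp : N = p ^ N.primeFactorsList.length :=
    Nat.eq_prime_pow_of_unique_prime_dvd hA fun {d} => hprimes d
  set e := N.primeFactorsList.length
  refine ⟨g, p, e, hpp, hg.trans hNp, ?_⟩
  by_contra hne
  push Not at hne
  obtain ⟨x, hx⟩ := hne
  have hall : ∀ y : A, (p ^ e) • y = 0 := fun y => hNp ▸ AddMonoid.exponent_nsmul_eq_zero y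
  have hex : ∃ k, (p ^ k) • x ∈ AddSubgroup.zmultiples g := ⟨e, by rw [hall]; exact zero_mem _⟩
  have hk0 : Nat.find hex ≠ 0 := fun h0 => by
    have := Nat.find_spec hex
    rw [h0, pow_zero, one_nsmul] at this
    exact hx this
  obtain ⟨k, hk⟩ : ∃ k, Nat.find hex = k + 1 := ⟨Nat.find hex - 1, by omega⟩
  set z := (p ^ k) • x
  have hz : z ∉ AddSubgroup.zmultiples g := Nat.find_min hex (by omega)
  obtain ⟨j, hj⟩ : p • z ∈ AddSubgroup.zmultiples g := by
    have := Nat.find_spec hex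
    rwa [hk, pow_succ, mul_comm, mul_smul] at this
  simp only at hj
  have he : e ≠ 0 := fun h0 => hN1 (by rw [hNp, h0, pow_zero])
  obtain ⟨e', he'⟩ : ∃ e', e = e' + 1 := ⟨e - 1, by omega⟩
  have hzero : (((p ^ e' : ℕ) : ℤ) * j) • g = (0 : A) := by
    rw [mul_smul, hj, natCast_zsmul, smul_smul, ← pow_succ, ← he', hall]
  obtain ⟨i, hi⟩ : (p : ℤ) ∣ j := by
    have h1 : (addOrderOf g : ℤ) ∣ (p ^ e' : ℕ) * j := addOrderOf_dvd_iff_zsmul_eq_zero.mpr hzero
    rw [hg, hNp, he', pow_succ, Nat.cast_mul] at h1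
    exact Int.dvd_of_mul_dvd_mul_left (by exact_mod_cast (pow_ne_zero e' hpp.ne_zero)) h1
  set y := z - i • g with hy
  have hpy : p • y = 0 := by
    rw [hy, nsmul_sub, ← hj, hi, mul_smul, natCast_zsmul, sub_self]
  have hyg : y ∉ AddSubgroup.zmultiples g := fun hmem' => hz (by
    have := add_mem hmem' (zsmul_mem (AddSubgroup.mem_zmultiples g) i)
    rwa [hy, sub_add_cancel] at this)
  have hy0 : y ≠ 0 := fun h0 => hyg (h0 ▸ zero_mem _)
  have hoy : addOrderOf y = p := addOrderOf_eq_prime (hp := ⟨hpp⟩) hpy hy0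
  obtain ⟨l, hl⟩ := hmem y hy0
  simp only at hl
  have hg0 : g ≠ 0 := fun h0 => hN1 (by rw [← hg, h0, addOrderOf_zero])
  have hpl : ¬ (p : ℤ) ∣ l := fun ⟨m, hm⟩ => ha (by
    rw [← hl, hm, mul_comm, mul_smul, natCast_zsmul, hpy, smul_zero])
  obtain ⟨u, w, huw⟩ : IsCoprime (p : ℤ) l :=
    (Nat.prime_iff_prime_int.mp hpp).coprime_iff_not_dvd.mpr hpl
  refine hyg ?_
  have hya : y = w • a := by
    calc y = (u * (p : ℤ) + w * l) • y := by rw [huw, one_zsmul]
      _ = w • a := by rw [add_zsmul, mul_smul, mul_smul, natCast_zsmul, hpy, smul_zero, zero_add, hl]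
  rw [hya]
  exact zsmul_mem (hmem g hg0) w

theorem finite_of_exponent {A : Type u} [AddCommGroup A] (hA : AddMonoid.exponent A ≠ 0) (a : A)
    (ha : a ≠ 0) (h : ∀ B : AddSubgroup A, B ≠ ⊥ → a ∈ B) : Finite A := by
  obtain ⟨g, p, n, hp, ho, hgen⟩ := exists_generator hA a ha h
  have hfin : Finite (AddSubgroup.zmultiples g) :=
    Nat.finite_of_card_ne_zero (by rw [Nat.card_zmultiples, ho]; exact pow_ne_zero _ hp.ne_zero)
  exact Finite.of_surjective (Subtype.val : AddSubgroup.zmultiples g → A) fun x => ⟨⟨x, hgen x⟩, rfl⟩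

theorem exists_addEquiv_zmod {A : Type u} [AddCommGroup A] [Finite A] (a : A) (ha : a ≠ 0)
    (h : ∀ B : AddSubgroup A, B ≠ ⊥ → a ∈ B) :
    ∃ p n : ℕ, p.Prime ∧ Nonempty (A ≃+ ZMod (p ^ n)) := by
  obtain ⟨g, p, n, hp, ho, hgen⟩ :=
    exists_generator (AddMonoid.exponent_ne_zero_of_finite) a ha h
  have hcyc : IsAddCyclic A := ⟨g, fun x => hgen x⟩
  have hcard : Nat.card A = p ^ n := (addOrderOf_eq_card_of_forall_mem_zmultiples hgen).symm.trans ho
  exact ⟨p, n, hp, ⟨(zmodAddCyclicAddEquiv hcyc).symm.trans (ZMod.ringEquivCongr hcard).toAddEquiv⟩⟩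

theorem exists_open_finiteIndex_not_mem_iff {A : Type u} [AddCommGroup A] [TopologicalSpace A]
    [IsTopologicalAddGroup A] (hn : ∀ n : ℕ, 0 < n → IsOpen (Set.range (fun x : A => n • x))) (a : A) :
    (∃ B : AddSubgroup A, IsOpen (B : Set A) ∧ B.FiniteIndex ∧ a ∉ B) ↔
      ¬ (∀ n : ℕ, 0 < n → ∃ b : A, n • b = a) := by
  constructor
  · rintro ⟨B, -, hB, haB⟩ hdiv
    obtain ⟨b, rfl⟩ := hdiv B.index (Nat.pos_of_ne_zero hB.index_ne_zero)
    exact haB (AddSubgroup.nsmul_index_mem B b)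
  · intro hdiv
    push Not at hdiv
    obtain ⟨n, hn0, hna⟩ := hdiv
    let H : AddSubgroup A := (nsmulAddMonoidHom n : A →+ A).range
    have haH : (QuotientAddGroup.mk a : A ⧸ H) ≠ 0 := fun h0 => by
      obtain ⟨b, hb⟩ := (QuotientAddGroup.eq_zero_iff a).mp h0
      exact hna b hb
    obtain ⟨c, hc⟩ := CharacterModule.exists_character_apply_ne_zero_of_ne_zero haH
    let χ : A →+ AddCircle (1 : ℚ) := AddMonoidHom.comp c (QuotientAddGroup.mk' H)
    have hHχ : H ≤ χ.ker := fun x hx => by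
      show c (QuotientAddGroup.mk' H x) = 0
      rw [QuotientAddGroup.mk'_apply, (QuotientAddGroup.eq_zero_iff x).mpr hx, map_zero]
    have hfin : Finite χ.range := by
      refine ((AddCircle.finite_torsion (1 : ℚ) hn0).subset ?_).to_subtype
      rintro _ ⟨x, rfl⟩
      show n • χ x = 0
      rw [← map_nsmul]
      exact hHχ ⟨x, rfl⟩
    refine ⟨χ.ker, AddSubgroup.isOpen_mono hHχ (hn n hn0), ⟨?_⟩, fun h => hc h⟩
    rw [AddSubgroup.index_ker]
    exact Nat.card_pos.ne'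

theorem extension {A : Type u} {B : Type v} [AddCommGroup A] [TopologicalSpace A]
    [AddCommGroup B] [TopologicalSpace B] [IsTopologicalAddGroup B]
    (i : A →+ B) (hinj : Function.Injective i) (hind : IsInducing i) (hopen : IsOpen (Set.range i))
    (χ : A →+ ℚ ⧸ AddSubgroup.zmultiples (1 : ℚ)) (hχ : IsOpen (χ.ker : Set A)) :
    ∃ ψ : B →+ ℚ ⧸ AddSubgroup.zmultiples (1 : ℚ), IsOpen (ψ.ker : Set B) ∧ ψ.comp i = χ := by
  obtain ⟨ψ, hψ⟩ := CharacterModule.dual_surjective_of_injective (R := ℤ) i.toIntLinearMap hinj χ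
  have hψ' : ∀ a, ψ (i a) = χ a := fun a => DFunLike.congr_fun hψ a
  refine ⟨ψ, ?_, AddMonoidHom.ext hψ'⟩
  obtain ⟨U, hU, hUχ⟩ := hind.isOpen_iff.mp hχ
  have hle : (χ.ker.map i) ≤ AddMonoidHom.ker (ψ : B →+ _) := by
    rintro _ ⟨a, ha, rfl⟩
    exact (hψ' a).trans ha
  refine AddSubgroup.isOpen_mono hle ?_
  have : (χ.ker.map i : Set B) = U ∩ Set.range i := by
    rw [AddSubgroup.coe_map, ← hUχ, Set.image_preimage_eq_inter_range]
  rw [this]
  exact hU.inter hopen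

theorem factor {B : Type u} {C : Type v} [AddCommGroup B] [TopologicalSpace B]
    [AddCommGroup C] [TopologicalSpace C] [IsTopologicalAddGroup C]
    (p : B →+ C) (hpo : IsOpenMap p) (hps : Function.Surjective p)
    (χ : B →+ ℚ ⧸ AddSubgroup.zmultiples (1 : ℚ)) (hχ : IsOpen (χ.ker : Set B))
    (hχp : p.ker ≤ χ.ker) :
    ∃ φ : C →+ ℚ ⧸ AddSubgroup.zmultiples (1 : ℚ), IsOpen (φ.ker : Set C) ∧ φ.comp p = χ := by
  let φ := p.liftOfSurjective hps ⟨χ, hχp⟩
  have hφ : ∀ b, φ (p b) = χ b := fun b =>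
    p.liftOfRightInverse_comp_apply _ (Function.rightInverse_surjInv hps) ⟨χ, hχp⟩ b
  refine ⟨φ, ?_, AddMonoidHom.ext hφ⟩
  refine AddSubgroup.isOpen_mono (H₁ := χ.ker.map p) ?_ (hpo _ hχ)
  rintro _ ⟨b, hb, rfl⟩
  exact (hφ b).trans hb

theorem finiteIndex_ker {B : Type u} [AddCommGroup B] [TopologicalSpace B] [IsTopologicalAddGroup B]
    (hcg : ∃ K : Set B, IsCompact K ∧ AddSubgroup.closure K = ⊤)
    (χ : B →+ ℚ ⧸ AddSubgroup.zmultiples (1 : ℚ)) (hχ : IsOpen (χ.ker : Set B)) :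
    χ.ker.FiniteIndex := by
  obtain ⟨K, hK, hgen⟩ := hcg
  have : DiscreteTopology (B ⧸ χ.ker) := QuotientAddGroup.discreteTopology hχ
  have hfin : ((QuotientAddGroup.mk : B → B ⧸ χ.ker) '' K).Finite :=
    (hK.image QuotientAddGroup.continuous_mk).finite_of_discrete
  have htop : AddSubgroup.closure ((QuotientAddGroup.mk : B → B ⧸ χ.ker) '' K) = ⊤ := by
    rw [← QuotientAddGroup.coe_mk', ← AddMonoidHom.map_closure, hgen, ← AddMonoidHom.range_eq_map]
    exact QuotientAddGroup.range_mk' _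
  have : AddGroup.FG (B ⧸ χ.ker) := AddGroup.fg_iff.mpr ⟨_, htop, hfin⟩
  have : Finite (B ⧸ χ.ker) := by
    refine AddCommGroup.finite_of_fg_isAddTorsion _ fun q => ?_
    obtain ⟨b, rfl⟩ := QuotientAddGroup.mk_surjective q
    obtain ⟨r, hr⟩ := QuotientAddGroup.mk_surjective (χ b)
    refine isOfFinAddOrder_iff_nsmul_eq_zero.mpr ⟨r.den, r.den_pos, ?_⟩
    rw [← QuotientAddGroup.mk_nsmul, QuotientAddGroup.eq_zero_iff, AddMonoidHom.mem_ker, map_nsmul,
      ← hr, ← QuotientAddGroup.mk_nsmul, QuotientAddGroup.eq_zero_iff]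
    exact ⟨r.num, by simp [mul_comm, Rat.mul_den_eq_num]⟩
  exact AddSubgroup.finiteIndex_of_finite_quotient

theorem profinite_quotient {A : Type u} [AddCommGroup A] [TopologicalSpace A]
    [IsTopologicalAddGroup A] [CompactSpace A] [T2Space A] [TotallyDisconnectedSpace A]
    (B : AddSubgroup A) (hB : IsCompact (B : Set A)) :
    CompactSpace (A ⧸ B) ∧ T2Space (A ⧸ B) ∧ TotallyDisconnectedSpace (A ⧸ B) := by
  have hclosed : IsClosed (B : Set A) := hB.isClosed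
  have : T1Space (A ⧸ B) := inferInstance
  refine ⟨inferInstance, inferInstance, ?_⟩
  have : TotallySeparatedSpace (A ⧸ B) := by
    rw [totallySeparatedSpace_iff_exists_isClopen]
    intro x y hxy
    obtain ⟨a, rfl⟩ := QuotientAddGroup.mk_surjective x
    obtain ⟨b, rfl⟩ := QuotientAddGroup.mk_surjective y
    have hd : (0 : A) ∈ ((b - a) +ᵥ (B : Set A))ᶜ := by
      intro h0
      rw [Set.mem_vadd_set_iff_neg_vadd_mem] at h0
      apply hxy
      rw [QuotientAddGroup.eq]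
      simpa [sub_eq_add_neg, add_comm] using neg_mem h0
    obtain ⟨W, hW, h0W, hWsub⟩ := compact_exists_isClopen_in_isOpen
      (hclosed.vadd (b - a)).isOpen_compl hd
    obtain ⟨U, hU⟩ := IsTopologicalAddGroup.exist_openAddSubgroup_sub_clopen_nhds_of_zero hW h0W
    let V : AddSubgroup (A ⧸ B) := (U : AddSubgroup A).map (QuotientAddGroup.mk' B)
    have hV : IsOpen (V : Set (A ⧸ B)) := QuotientAddGroup.isOpenMap_coe _ U.isOpen'
    have hVc : IsClopen (V : Set (A ⧸ B)) := ⟨AddSubgroup.isClosed_of_isOpen V hV, hV⟩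
    refine ⟨(fun z => z - (a : A ⧸ B)) ⁻¹' (V : Set (A ⧸ B)), hVc.preimage (by fun_prop), ?_, ?_⟩
    · show (a : A ⧸ B) - a ∈ V
      rw [sub_self]
      exact zero_mem _
    · rintro ⟨u, hu, hub⟩
      have hmem : u ∈ (b - a) +ᵥ (B : Set A) := by
        rw [Set.mem_vadd_set_iff_neg_vadd_mem]
        have h1 : (QuotientAddGroup.mk (b - a) : A ⧸ B) = QuotientAddGroup.mk u := hub.symm
        simpa [sub_eq_add_neg, add_comm] using QuotientAddGroup.eq.mp h1
      exact hWsub (hU hu) hmem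
  infer_instance

end ProComplLib
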